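import Mathlib
import Groth.Agent.S0862
import Groth.Agent.Lib.Helper3.QcSum5
import Groth.Agent.Lib.Helper3.CompDer5
import Groth.Agent.Lib.Helper3.CompDer4
import Groth.Agent.Lib.Helper3.ModLim4
import Groth.Agent.Lib.Helper3.ModGroth

/-!
# `j_{U!} O_U` is compact for uniformly bounded below families, `U` in a class `B` with finite
coverings `Cov` (helper6)
-/

set_option autoImplicit false
universe u
open CategoryTheory CategoryTheory.Limits Opposite

namespace Groth.Agent.Lib.Helper6.QcGen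

open Groth.Agent.Helper3.QcSum Groth.Agent.Helper3.CompDer Groth.Agent.Helper3.ModLim
  Groth.Agent.Helper6.DRef

section Abstract

/-- an additive functor kills finite coproducts of objects it kills -/
lemma isZero_map_sigma_fintype {A B : Type*} [Category A] [Category B] [Preadditive A]
    [Preadditive B] [HasFiniteBiproducts A] [HasFiniteCoproducts A]
    (H : A ⥤ B) [H.Additive] {T : Type*} [Finite T] (f : T → A)
    (h : ∀ t, IsZero (H.obj (f t))) : IsZero (H.obj (∐ f)) := by
  classical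
  obtain ⟨n, ⟨e⟩⟩ := Finite.exists_equiv_fin T
  have hz : IsZero (H.obj (⨁ (f ∘ e.symm))) := by
    rw [IsZero.iff_id_eq_zero, ← H.map_id, ← biproduct.total, H.map_sum]
    refine Finset.sum_eq_zero (fun t _ => ?_)
    rw [H.map_comp, (h (e.symm t)).eq_of_tgt (H.map (biproduct.π (f ∘ e.symm) t)) 0, zero_comp]
  exact hz.of_iso (H.mapIso ((Sigma.reindex e.symm f).symm ≪≫
    (biproduct.isoCoproduct (f ∘ e.symm)).symm))

open CoproductsFromFiniteFiltered in
/-- an additive functor commuting with the filtered colimit of finite subcoproducts kills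
coproducts of objects it kills -/
theorem isZero_map_sigma {A B : Type*} [Category A] [Category B] [Preadditive A]
    [Preadditive B] [HasFiniteBiproducts A] [HasFiniteCoproducts A]
    (H : A ⥤ B) [H.Additive] {I : Type*} (G : I → A) [HasCoproduct G]
    [HasColimitsOfShape (Finset (Discrete I)) A]
    [PreservesColimit (liftToFinsetObj (Discrete.functor G)) H]
    (h : ∀ i, IsZero (H.obj (G i))) : IsZero (H.obj (∐ G)) := by
  have hc := isColimitOfPreserves H (isColimitFiniteSubproductsCocone G)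
  rw [IsZero.iff_id_eq_zero]
  refine hc.hom_ext (fun T => ?_)
  exact (isZero_map_sigma_fintype H (fun x : T => (Discrete.functor G).obj x)
    (fun x => h x.1.as)).eq_of_src _ _

end Abstract

variable {C : Type u} [SmallCategory C] {J : GrothendieckTopology C}

section Qc

/-- members of `B` are quasi-compact objects -/
theorem isQcObject_of_collection (B : Set C)
    (Cov : ∀ (U : C) (ι : Type u), (ι → Over U) → Prop)
    (h1 : ∀ (U : C) (ι : Type u) (Y : ι → Over U), Cov U ι Y → Finite ι ∧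
      Sieve.ofArrows (fun i => (Y i).left) (fun i => (Y i).hom) ∈ J U)
    (h2 : ∀ U ∈ B, ∀ T ∈ J U, ∃ (ι : Type u) (Y : ι → Over U), Cov U ι Y ∧
      ∀ i, T.arrows (Y i).hom)
    (W : C) (hW : W ∈ B) :
    CohCx.IsQcObject ((presheafToSheaf J (Type u)).obj (yoneda.obj W)) := by
  classical
  intro I L f hjs
  obtain ⟨S, hS, hS'⟩ := hjs W (eta J W (𝟙 W))
  obtain ⟨ι, Y, hcov, hY⟩ := h2 W hW S hS
  obtain ⟨hfin, hYcov⟩ := h1 W ι Y hcov
  have hex : ∀ j : ι, ∃ (i : I) (x : (L i).obj.obj (op (Y j).left)),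
      (f i).hom.app (op (Y j).left) x = eta J W (Y j).hom := by
    intro j
    obtain ⟨i, x, hx⟩ := hS' (Y j).left (Y j).hom (hY j)
    refine ⟨i, x, ?_⟩
    rw [hx, eta_comp, Category.comp_id]
  choose r x hx using hex
  haveI := Fintype.ofFinite ι
  refine ⟨Finset.univ.image r, ?_⟩
  intro V s
  have h1' : Presheaf.imageSieve (toSheafify J (yoneda.obj W)) s ∈ J V :=
    Presheaf.imageSieve_mem J (toSheafify J (yoneda.obj W)) (U := op V) s
  refine ⟨Sieve.bind (Presheaf.imageSieve (toSheafify J (yoneda.obj W)) s).arrows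
      (fun V' g hg => (Sieve.ofArrows (fun i => (Y i).left)
        (fun i => (Y i).hom)).pullback hg.choose),
      J.bind_covering h1' (fun V' g hg => J.pullback_stable _ hYcov), ?_⟩
  rintro V'' g ⟨V', k, g', hg', hk, rfl⟩
  obtain ⟨j, m, hm⟩ := (Sieve.mem_ofArrows_iff _ _ _).1 hk
  refine ⟨⟨r j, Finset.mem_image_of_mem r (Finset.mem_univ j)⟩,
    (L (r j)).obj.map m.op (x j), ?_⟩
  have e1 : (f (r j)).hom.app (op V'') ((L (r j)).obj.map m.op (x j)) =
      (hSh J W).obj.map m.op ((f (r j)).hom.app (op (Y j).left) (x j)) :=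
    NatTrans.naturality_apply (f (r j)).hom m.op (x j)
  have e2 : (hSh J W).obj.map m.op (eta J W (Y j).hom) = eta J W (m ≫ (Y j).hom) :=
    eta_comp J W m _
  have e3 : eta J W (k ≫ hg'.choose) = (hSh J W).obj.map k.op (eta J W hg'.choose) :=
    (eta_comp J W k _).symm
  have e4 : (hSh J W).obj.map k.op (eta J W hg'.choose) =
      (hSh J W).obj.map k.op ((hSh J W).obj.map g'.op s) :=
    congrArg ((hSh J W).obj.map k.op) hg'.choose_spec
  have e5 : (hSh J W).obj.map k.op ((hSh J W).obj.map g'.op s) =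
      (hSh J W).obj.map (k ≫ g').op s := by
    rw [op_comp, Functor.map_comp]
    rfl
  exact e1.trans ((congrArg ((hSh J W).obj.map m.op) (hx j)).trans
    (e2.trans ((congrArg (eta J W) hm.symm).trans (e3.trans (e4.trans e5)))))

end Qc

section Vanish

variable [HasPullbacks C] (O : Sheaf J CommRingCat.{u})
  (B : Set C) (Cov : ∀ (U : C) (ι : Type u), (ι → Over U) → Prop)
  (h1 : ∀ (U : C) (ι : Type u) (Y : ι → Over U), Cov U ι Y → Finite ι ∧ U ∈ B ∧
    Sieve.ofArrows (fun i => (Y i).left) (fun i => (Y i).hom) ∈ J U ∧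
    ∀ (p : ℕ) (a : Fin (p + 1) → ι), (∏ᶜ fun k => Y (a k)).left ∈ B)
  (h2 : ∀ U ∈ B, ∀ T ∈ J U, ∃ (ι : Type u) (Y : ι → Over U), Cov U ι Y ∧
    ∀ i, T.arrows (Y i).hom)

instance additive_EU (U : C) (p : ℕ) : (EU J U p).Additive :=
  inferInstanceAs (Abelian.extFunctorObj ((Fr J).obj U) p).Additive

include h1 h2 in
/-- cohomology over a member of `B` of a direct sum of abelian sheaves with vanishing cohomology
vanishes -/
theorem isZero_EU_sigma (U : C) (hU : U ∈ B) (p : ℕ) {I : Type u}
    (G : I → Sheaf J AddCommGrpCat.{u}) (hG : ∀ i, IsZero ((EU J U p).obj (G i))) :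
    IsZero ((EU J U p).obj (∐ G)) := by
  haveI : PreservesColimit
      (CoproductsFromFiniteFiltered.liftToFinsetObj (Discrete.functor G)) (EU J U p) :=
    Groth.Agent.S0862.result J B Cov h1 h2 U hU p (Finset (Discrete I)) _
  haveI : HasFiniteBiproducts (Sheaf J AddCommGrpCat.{u}) :=
    HasFiniteBiproducts.of_hasFiniteProducts
  exact isZero_map_sigma (EU J U p) G hG

variable [HasExt.{u} (ModSite.Mod O)]

include h1 h2 in
/-- `Ext^p(j_{U!}O_U, -)`, `p > 0`, kills direct sums of injective modules, `U ∈ B` -/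
theorem ext_sigma_eq_zero (U : C) (hU : U ∈ B) {I : Type u} (X : I → ModSite.Mod O)
    (hX : ∀ i, Injective (X i)) (p : ℕ) (hp : 0 < p)
    (x : Abelian.Ext.{u} (ModSite.freeOn O U) (∐ X) p) : x = 0 := by
  haveI : Subsingleton (Abelian.Ext.{u} (ModSite.freeOn O U) (∐ X) p) := by
    apply subsingleton_ext_of_HU O U (∐ X) p
    haveI := toSheaf_preservesColimitsOfShape (ModSite.ringSh O) (Discrete I)
    let G : I → Sheaf J AddCommGrpCat.{u} := fun i => (tAb O).obj (X i)
    have e : (tAb O).obj (∐ X) ≅ ∐ G := PreservesCoproduct.iso (tAb O) X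
    have hG : ∀ i, IsZero ((EU J U p).obj (G i)) := by
      intro i
      obtain ⟨ε⟩ := nonempty_ext_addEquiv O U (X i) p
      obtain ⟨m, rfl⟩ : ∃ m, p = m + 1 := ⟨p - 1, by omega⟩
      haveI := hX i
      haveI : Subsingleton (Abelian.Ext.{u} (ModSite.freeOn O U) (X i) (m + 1)) :=
        subsingleton_of_forall_eq 0 (fun y => Abelian.Ext.eq_zero_of_injective y)
      have hs : Subsingleton (Abelian.Ext.{u} ((Fr J).obj U) ((tAb O).obj (X i)) (m + 1)) :=
        ε.symm.subsingleton
      exact @AddCommGrpCat.isZero_of_subsingleton _ hs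
    have hz : IsZero ((EU J U p).obj (∐ G)) := isZero_EU_sigma B Cov h1 h2 U hU p G hG
    have hz' : IsZero ((EU J U p).obj ((tAb O).obj (∐ X))) :=
      hz.of_iso ((EU J U p).mapIso e)
    exact AddCommGrpCat.subsingleton_of_isZero hz'
  exact Subsingleton.elim _ _

end Vanish

section Main

variable [HasPullbacks C] (O : Sheaf J CommRingCat.{u})
  (B : Set C) (Cov : ∀ (U : C) (ι : Type u), (ι → Over U) → Prop)
  (h1 : ∀ (U : C) (ι : Type u) (Y : ι → Over U), Cov U ι Y → Finite ι ∧ U ∈ B ∧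
    Sieve.ofArrows (fun i => (Y i).left) (fun i => (Y i).hom) ∈ J U ∧
    ∀ (p : ℕ) (a : Fin (p + 1) → ι), (∏ᶜ fun k => Y (a k)).left ∈ B)
  (h2 : ∀ U ∈ B, ∀ T ∈ J U, ∃ (ι : Type u) (Y : ι → Over U), Cov U ι Y ∧
    ∀ i, T.arrows (Y i).hom)
  [HasDerivedCategory.{u} (ModSite.Mod O)]

include h1 h2 in
theorem s9047_main (U : C) (hU : U ∈ B) {I : Type u}
    (M : I → DerivedCategory (ModSite.Mod O)) [HasCoproduct M]
    (a : ℤ) (hM : ∀ i, (M i).IsGE a) :
    Function.Bijective (CohDer.homSumToHomCoprod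
      ((DerivedCategory.singleFunctor (ModSite.Mod O) 0).obj (ModSite.freeOn O U)) M) := by
  classical
  haveI : HasExt.{u} (ModSite.Mod O) := hasExt_of_hasDerivedCategory _
  haveI := hasExactColimitsOfShape_discrete O I
  have hqc : CohCx.IsQcObject ((presheafToSheaf J (Type u)).obj (yoneda.obj U)) :=
    isQcObject_of_collection B Cov (fun V ι Y hc => ⟨(h1 V ι Y hc).1, (h1 V ι Y hc).2.2.1⟩)
      h2 U hU
  have hb := bijective_of_isGE (ModSite.freeOn O U) (fun X => h0_freeOn O U hqc X)
    (fun X hX p hp x => ext_sigma_eq_zero O B Cov h1 h2 U hU X hX p hp x)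
    M a hM (Cofan.mk (∐ M) (Sigma.ι M)) (coproductIsCoproduct M)
  exact bijective_homSumToHomCoprod_of_iso _ M M _ (coproductIsCoproduct M)
    (fun i => Iso.refl _) hb

end Main

end Groth.Agent.Lib.Helper6.QcGen
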