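import Mathlib
import Groth.Prelude.Def_CohCx
import Groth.Agent.Lib.Helper3.ModGroth
import Groth.Agent.Lib.Helper6.DCLoc.Gen

/-!
# Every `O`-module on a ringed site is a quotient of a direct sum of modules `j_{U!} O_U` with `U`
ranging over a class of objects through which coverings factor (helper6)
-/

set_option autoImplicit false
universe u
open CategoryTheory CategoryTheory.Limits Opposite

namespace Groth.Agent.Lib.Helper6.QcGen

open Groth.Agent.Lib.Helper5.FreeOn Groth.Agent.Lib.Helper6.DCLoc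

variable {C : Type u} [SmallCategory C] {J : GrothendieckTopology C} (O : Sheaf J CommRingCat.{u})

/-- the canonical section of `j_{U!}O_U` over `U` -/
noncomputable def gen (U : C) : (ModSite.freeOn O U).val.obj (op U) :=
  freeOnHomEquiv O U (ModSite.freeOn O U) (𝟙 _)

lemma app_gen (U : C) {X : ModSite.Mod O} (φ : ModSite.freeOn O U ⟶ X) :
    φ.val.app (op U) (gen O U) = freeOnHomEquiv O U X φ := by
  have := freeOnHomEquiv_naturality O U (𝟙 (ModSite.freeOn O U)) φ
  rw [Category.id_comp] at this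
  exact this.symm

theorem exists_epi [HasCoproducts.{u} (ModSite.Mod O)] (P : C → Prop)
    (hC : ∀ V : C, ∃ R ∈ J V, ∀ ⦃W : C⦄ (g : W ⟶ V), R g →
      ∃ (U : C) (a : W ⟶ U) (b : U ⟶ V), P U ∧ a ≫ b = g)
    (X : ModSite.Mod O) :
    ∃ (ι : Type u) (E : ι → ModSite.Mod O) (π : ∐ E ⟶ X),
      (∀ i, ∃ U : C, P U ∧ E i = ModSite.freeOn O U) ∧ Epi π := by
  let ι : Type u := Σ U : {U : C // P U}, X.val.obj (op U.1)
  let E : ι → ModSite.Mod O := fun p => ModSite.freeOn O p.1.1
  let π : ∐ E ⟶ X := Sigma.desc (fun p => (freeOnHomEquiv O p.1.1 X).symm p.2)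
  refine ⟨ι, E, π, fun p => ⟨p.1.1, p.1.2, rfl⟩, ?_⟩
  apply epi_of_locally_surjective
  intro V s
  obtain ⟨R, hR, hfac⟩ := hC V
  refine ⟨R, hR, ?_⟩
  intro W g hg
  obtain ⟨U, a, b, hU, rfl⟩ := hfac g hg
  let s' : X.val.obj (op V) := s
  let p : ι := ⟨⟨U, hU⟩, X.val.map b.op s'⟩
  have hp : Sigma.ι E p ≫ π = (freeOnHomEquiv O U X).symm (X.val.map b.op s') :=
    Sigma.ι_desc _ _
  let y : (∐ E).val.obj (op U) := (Sigma.ι E p).val.app (op U) (gen O U)
  have h1 : (Sigma.ι E p ≫ π).val.app (op U) (gen O U) = X.val.map b.op s' := by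
    rw [app_gen, hp, Equiv.apply_symm_apply]
  have hy : π.val.app (op U) y = X.val.map b.op s' := h1
  refine ⟨(∐ E).val.map a.op y, ?_⟩
  have hn := PresheafOfModules.naturality_apply π.val a.op y
  have h2 : X.val.map (a ≫ b).op s' = X.val.map a.op (X.val.map b.op s') := by
    rw [op_comp, PresheafOfModules.map_comp_apply]
  exact hn.trans ((congrArg (fun z => X.val.map a.op z) hy).trans h2.symm)

end Groth.Agent.Lib.Helper6.QcGen
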